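import Cfsg.Agent.H61.TwoAn.Struct
import Cfsg.Agent.H35.SqChars
import Cfsg.Agent.H13.GL23.Values

/-!
The four induced functions of the configuration `H33.TwoAn.LCfg` and their constituents.
-/

set_option autoImplicit false
set_option linter.unusedSectionVars false
set_option linter.style.haveILetI false

open Cfsg
open H35.DA
open H13.GL23 (Signed1 ci_zero_comm int_bessel3 norm_two_split orth_of_split)
open scoped ComplexConjugate

namespace H61.TwoAn

universe u

/-- The four lines of `ZMod 3 × ZMod 3`, as functionals. -/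
def lin : Fin 4 → P9 → ZMod 3 :=
  ![fun p => p.1, fun p => p.2, fun p => p.1 + p.2, fun p => p.1 + 2 * p.2]

theorem lin_add : ∀ (k : Fin 4) (p q : P9), lin k (p + q) = lin k p + lin k q := by decide +kernel

/-- `1 + sgn - ψ_k` on the generalised dihedral group. -/
def dfun (k : Fin 4) : GDih P9 → ℤ
  | .r p => if lin k p = 0 then 0 else 3
  | .sr _ => 0

theorem sum_dfun : ∀ k : Fin 4, ∑ g : GDih P9, dfun k g = 18 := by decide +kernel

theorem sum_dfun_mul : ∀ k l : Fin 4,
    ∑ g : GDih P9, dfun k g * dfun l g = if k = l then 54 else 36 := by decide +kernel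

theorem dfun_ne : ∀ (k : Fin 4) (g : GDih P9), dfun k g ≠ 0 → ∃ p : P9, p ≠ 0 ∧ g = .r p := by
  decide +kernel

/-- Reduction along a functional. -/
def redk (k : Fin 4) : GDih P9 →* DihedralGroup 3 where
  toFun
    | .r p => .r (lin k p)
    | .sr p => .sr (lin k p)
  map_one' := by revert k; decide +kernel
  map_mul' := by revert k; decide +kernel

theorem alpha_redk : ∀ (k : Fin 4) (g : GDih P9), H35.Sq.alpha (redk k g) = dfun k g := by
  decide +kernel

variable {L : Type u} [Group L] [Fintype L] (M : H33.TwoAn.LCfg L)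

/-- The function on the centraliser. -/
noncomputable def phi (k : Fin 4) : Cz M → ℂ := fun c => (dfun k (coord M c) : ℂ)

theorem phi_gen (k : Fin 4) : IsGeneralizedCharacter (Cz M) (phi M k) := by
  have hal : IsGeneralizedCharacter (DihedralGroup 3) (fun g => (H35.Sq.alpha g : ℂ)) := by
    convert H16.gen_sub (H16.gen_add (H35.Sq.gen_chi 0) (H35.Sq.gen_chi 1)) (H35.Sq.gen_chi 2) using 1
    funext g
    have : ∀ g : DihedralGroup 3, H35.Sq.alpha g =
        H35.Sq.chi 0 g + H35.Sq.chi 1 g - H35.Sq.chi 2 g := by decide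
    simp [this g]
  obtain ⟨p, q, hp, hq, e⟩ := hal
  refine ⟨fun c => p (redk k (coord M c)), fun c => q (redk k (coord M c)),
    H12.IsCharacter.comp hp ((redk k).comp (coord M)),
    H12.IsCharacter.comp hq ((redk k).comp (coord M)), ?_⟩
  funext c
  simp only [phi, ← alpha_redk]
  exact congrFun e _

theorem phi_inD {k : Fin 4} {c : Cz M} (h : phi M k c ≠ 0) : InD M c := by
  obtain ⟨p, hp, hc⟩ := dfun_ne k (coord M c) (fun h0 => h (by simp [phi, h0]))
  exact ⟨p, hp, hc⟩

theorem phi_conj (k : Fin 4) (c d : Cz M) : phi M k (d * c * d⁻¹) = phi M k c := by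
  have : ∀ (k : Fin 4) (g h : GDih P9), dfun k (h * g * h⁻¹) = dfun k g := by decide +kernel
  simp [phi, this]

theorem sum_coord [Fintype (Cz M)] (f : GDih P9 → ℂ) :
    ∑ c : Cz M, f (coord M c) = (Nat.card M.K : ℂ) * ∑ g, f g := by
  haveI : Fintype M.K := Fintype.ofFinite _
  rw [← Fintype.sum_bijective (par M) (par_bijective M) (fun x => f x.1) (fun c => f (coord M c))
    (fun x => by rw [coord_par]), Fintype.sum_prod_type, Finset.mul_sum]
  refine Finset.sum_congr rfl fun g _ => ?_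
  show ∑ _y : M.K, f g = _
  rw [Finset.sum_const, Finset.card_univ, nsmul_eq_mul, Nat.card_eq_fintype_card]

theorem card_Cz : Nat.card (Cz M) = 18 * Nat.card M.K := by
  rw [show Nat.card (Cz M) = 9 * M.w ^ 2 from M.cardC]
  have := M.cardK
  linarith

theorem avg_coord [Fintype (Cz M)] (f : GDih P9 → ℂ) :
    (Nat.card (Cz M) : ℂ)⁻¹ * ∑ c : Cz M, f (coord M c) = (∑ g, f g) / 18 := by
  have h : (Nat.card M.K : ℂ) ≠ 0 := Nat.cast_ne_zero.mpr Nat.card_pos.ne'
  rw [sum_coord, card_Cz]
  push_cast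
  field_simp

/-- The induced functions. -/
noncomputable def Phi (k : Fin 4) : L → ℂ := indFun (Cz M) (phi M k)

theorem Phi_gen (k : Fin 4) : IsGeneralizedCharacter L (Phi M k) :=
  H13.isGeneralizedCharacter_indFun _ (phi_gen M k)

theorem Phi_cf (k : Fin 4) : IsClassFunction L (Phi M k) := H13.indFun_isClassFunction _ _

theorem Phi_one (k : Fin 4) : Phi M k 1 = 0 := by
  have : dfun k 1 = 0 := by revert k; decide +kernel
  rw [Phi, H13.indFun_apply_one]
  simp [phi, this]

/-- The induced functions vanish at elements whose sixteenth power is trivial. -/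
theorem Phi_two (k : Fin 4) {x : L} (hx : x ^ 16 = 1) : Phi M k x = 0 := by
  rw [Phi, H12.indFun_apply, Finset.sum_eq_zero, mul_zero]
  intro g _
  by_cases hm : g⁻¹ * x * g ∈ Cz M
  · rw [H13.extendByZero_mem _ _ hm]
    by_contra h
    refine (phi_inD M h).pow16.1 ?_
    show (g⁻¹ * x * g) ^ 16 = 1
    rw [show g⁻¹ * x * g = g⁻¹ * x * g⁻¹⁻¹ by rw [inv_inv], conj_pow, hx]
    group
  · exact H13.extendByZero_notMem _ _ hm

theorem Phi_special (k : Fin 4) (c : Cz M) (hc : InD M c) : Phi M k (c : L) = phi M k c := by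
  classical
  rw [Phi, H12.indFun_apply]
  have hterm : ∀ g : L, extendByZero (Cz M) (phi M k) (g⁻¹ * c * g) =
      if g ∈ Cz M then phi M k c else 0 := by
    intro g
    by_cases hg : g ∈ Cz M
    · have hm : g⁻¹ * c * g ∈ Cz M := mul_mem (mul_mem (inv_mem hg) c.2) hg
      rw [if_pos hg, H13.extendByZero_mem _ _ hm, ← phi_conj M k c (⟨g, hg⟩ : Cz M)⁻¹]
      congr 1
      exact Subtype.ext (by simp)
    · rw [if_neg hg]
      refine H13.extendByZero_notMem _ _ fun hm => hg ?_
      have h := hc.stay M (g := g⁻¹) (by rw [inv_inv]; exact hm)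
      simpa using inv_mem h
  rw [Finset.sum_congr rfl fun g _ => hterm g, ← Finset.sum_filter, Finset.sum_const,
    nsmul_eq_mul, ← mul_assoc]
  rw [show (Finset.univ.filter fun g : L => g ∈ Cz M).card = Nat.card (Cz M) by
    rw [Nat.card_eq_fintype_card, Fintype.card_subtype],
    inv_mul_cancel₀ (Nat.cast_ne_zero.mpr Nat.card_pos.ne'), one_mul]

theorem Phi_gram (k l : Fin 4) : classInner (Phi M k) (Phi M l) = if k = l then 3 else 2 := by
  classical
  haveI : Fintype (Cz M) := Fintype.ofFinite _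
  conv_lhs => arg 1; rw [Phi]
  rw [H13.classInner_indFun_left _ _ (Phi_cf M l), H12.classInner_def,
    Finset.sum_congr rfl (g := fun c => ((dfun k (coord M c) * dfun l (coord M c) : ℤ) : ℂ))
      (fun c _ => ?_),
    avg_coord M fun g => ((dfun k g * dfun l g : ℤ) : ℂ), ← Int.cast_sum, sum_dfun_mul]
  · split_ifs <;> norm_num
  · by_cases h : phi M k c = 0
    · rw [h, zero_mul]
      simp only [phi, Int.cast_eq_zero] at h
      simp [h]
    · rw [Phi_special M l c (phi_inD M h)]
      simp [phi]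

theorem Phi_trivial (k : Fin 4) : classInner (Phi M k) (fun _ => 1) = 1 := by
  haveI : Fintype (Cz M) := Fintype.ofFinite _
  rw [Phi, H13.classInner_indFun_left _ _ (fun _ _ => rfl), H12.classInner_def,
    Finset.sum_congr rfl (g := fun c => ((dfun k (coord M c) : ℤ) : ℂ)) (fun c _ => by simp [phi]),
    avg_coord M fun g => ((dfun k g : ℤ) : ℂ), ← Int.cast_sum, sum_dfun]
  norm_num

theorem signed_one : Signed1 (fun _ : L => (1 : ℂ)) :=
  ⟨H16.gen_of_irr H12.isIrrCharacter_one, H16.ci_irr_self H12.isIrrCharacter_one⟩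

/-- The six constituents. -/
theorem exists_family : ∃ (V : L → ℂ) (Y : Fin 4 → L → ℂ),
    Signed1 V ∧ (∀ k, Signed1 (Y k)) ∧ classInner (fun _ => 1) V = 0 ∧
    (∀ k, classInner (fun _ => 1) (Y k) = 0) ∧ (∀ k, classInner V (Y k) = 0) ∧
    (∀ k l, k ≠ l → classInner (Y k) (Y l) = 0) ∧
    ∀ k, Phi M k = (fun _ => 1) + V + Y k := by
  classical
  have h1 := signed_one (L := L)
  set R : Fin 4 → L → ℂ := fun k => Phi M k - fun _ => 1 with hR
  have hRg : ∀ k, IsGeneralizedCharacter L (R k) := fun k => H16.gen_sub (Phi_gen M k) h1.1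
  have hR1 : ∀ k, classInner (R k) (fun _ => 1) = 0 := fun k => by
    simp only [hR, H16.ci_sub_left, Phi_trivial, h1.2, sub_self]
  have hRR : ∀ k l, classInner (R k) (R l) = if k = l then 2 else 1 := fun k l => by
    simp only [hR, H16.ci_sub_left, H16.ci_sub_right, Phi_gram, Phi_trivial, h1.2,
      H16.ci_symm (Phi M l) (fun _ => 1), map_one]
    split_ifs <;> norm_num
  have hRdeg : ∀ k, R k 1 = -1 := fun k => by simp [hR, Phi_one]
  obtain ⟨P, Q, hP, hQ, hPQ, e0⟩ := norm_two_split (hRg 0) (by rw [hRR, if_pos rfl])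
  have hP1 := orth_of_split hP h1 hPQ (by rw [← e0]; exact hR1 0)
  have hQ1 := orth_of_split hQ h1 (ci_zero_comm hPQ) (by rw [add_comm, ← e0]; exact hR1 0)
  obtain ⟨p, hp⟩ := H16.gen_inner_int (hRg 1) hP.1
  obtain ⟨q, hq⟩ := H16.gen_inner_int (hRg 1) hQ.1
  have hpq : p + q = 1 := by
    have h := hRR 1 0
    rw [e0, H16.ci_add_right, hp, hq, if_neg (by decide)] at h
    exact_mod_cast h
  have hbes := int_bessel3 hP.2 hQ.2 h1.2 hPQ hP1 hQ1 hp hq
    (show classInner (R 1) (fun _ => 1) = ((0 : ℤ) : ℂ) by rw [hR1]; simp)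
    (show classInner (R 1) (R 1) = ((2 : ℤ) : ℂ) by rw [hRR]; norm_num)
  obtain ⟨V, hV, hV1, hV0, hVone⟩ : ∃ V, Signed1 V ∧ classInner V (fun _ => 1) = 0 ∧
      classInner (R 0) V = 1 ∧ classInner (R 1) V = 1 := by
    have hcase : p = 1 ∧ q = 0 ∨ p = 0 ∧ q = 1 := by
      have : 0 ≤ p ∧ p ≤ 1 := by constructor <;> nlinarith [show q = 1 - p by omega]
      omega
    rcases hcase with ⟨rfl, rfl⟩ | ⟨rfl, rfl⟩
    · exact ⟨P, hP, hP1, by rw [e0, H16.ci_add_left, hP.2, ci_zero_comm hPQ, add_zero],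
        by rw [hp]; simp⟩
    · exact ⟨Q, hQ, hQ1, by rw [e0, H16.ci_add_left, hQ.2, hPQ, zero_add], by rw [hq]; simp⟩
  set Y : Fin 4 → L → ℂ := fun k => R k - V with hY
  have prop : ∀ k, classInner (R k) V = 1 → Signed1 (Y k) ∧ classInner V (Y k) = 0 := fun k hk => by
    refine ⟨⟨H16.gen_sub (hRg k) hV.1, ?_⟩, ?_⟩
    · simp only [hY, H16.ci_sub_left, H16.ci_sub_right, hRR, if_pos, hk, hV.2,
        H16.ci_symm (R k) V, map_one]
      norm_num
    · simp only [hY, H16.ci_sub_right, H16.ci_symm (R k) V, hk, hV.2, map_one, sub_self]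
  have hcross : ∀ k l, k ≠ l → classInner (R k) V = 1 → classInner (R l) V = 1 →
      classInner (Y k) (Y l) = 0 := fun k l hkl hk hl => by
    simp only [hY, H16.ci_sub_left, H16.ci_sub_right, hRR, if_neg hkl, hk, hV.2,
      H16.ci_symm (R l) V, hl, map_one]
    norm_num
  have hall : ∀ k, classInner (R k) V = 1 := by
    intro k
    by_cases hk0 : k = 0
    · rw [hk0]; exact hV0
    by_cases hk1 : k = 1
    · rw [hk1]; exact hVone
    obtain ⟨v, hv⟩ := H16.gen_inner_int (hRg k) hV.1
    have ha : classInner (R k) (Y 0) = ((1 - v : ℤ) : ℂ) := by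
      simp only [hY, H16.ci_sub_right, hRR, if_neg hk0, hv]
      push_cast; ring
    have hb : classInner (R k) (Y 1) = ((1 - v : ℤ) : ℂ) := by
      simp only [hY, H16.ci_sub_right, hRR, if_neg hk1, hv]
      push_cast; ring
    obtain ⟨hY0, hVY0⟩ := prop 0 hV0
    obtain ⟨hY1, hVY1⟩ := prop 1 hVone
    have hY01 := hcross 0 1 (by decide) hV0 hVone
    have hb3 := int_bessel3 hV.2 hY0.2 hY1.2 hVY0 hVY1 hY01 hv ha hb
      (show classInner (R k) (R k) = ((2 : ℤ) : ℂ) by rw [hRR]; norm_num)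
    have hv01 : v = 0 ∨ v = 1 := by
      have : 0 ≤ v ∧ v ≤ 1 := by constructor <;> nlinarith
      omega
    rcases hv01 with rfl | rfl
    · exfalso
      have hE : R k = Y 0 + Y 1 := by
        refine sub_eq_zero.mp ((H16.ci_self_eq_zero _).mp ?_)
        simp only [H16.ci_sub_left, H16.ci_sub_right, H16.ci_add_left, H16.ci_add_right, hRR,
          if_pos, hY0.2, hY1.2, hY01, ci_zero_comm hY01, ha, hb, H16.ci_symm (R k) (Y 0),
          H16.ci_symm (R k) (Y 1)]
        simp
        norm_num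
      have h := congrFun hE 1
      obtain ⟨n, hn⟩ := H16.gen_one_int hV.1
      simp only [hY, Pi.add_apply, Pi.sub_apply, hRdeg, hn] at h
      have h' : ((2 * n : ℤ) : ℂ) = ((-1 : ℤ) : ℂ) := by push_cast; linear_combination h
      have : 2 * n = -1 := by exact_mod_cast h'
      omega
    · rw [hv]; simp
  refine ⟨V, Y, hV, fun k => (prop k (hall k)).1, ci_zero_comm hV1, fun k => ?_,
    fun k => (prop k (hall k)).2, fun k l h => hcross k l h (hall k) (hall l), fun k => ?_⟩
  · exact ci_zero_comm (by simp only [hY, H16.ci_sub_left, hR1, hV1, sub_self])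
  · simp only [hY, hR]; abel

end H61.TwoAn
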