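import Cfsg.Agent.H61.TwoAn.Chars

/-!
Counting the pairs of involutions with special product.
-/

set_option autoImplicit false
set_option linter.unusedSectionVars false
set_option linter.style.haveILetI false

open Cfsg
open H35.DA
open H13.GL23 (pairCount)

namespace H61.TwoAn

universe u

variable {L : Type u} [Group L] [Fintype L] (M : H33.TwoAn.LCfg L)

theorem sum_lin_diff : ∑ a : P9, ∑ b : P9, dfun 0 (GDih.r (b - a)) = 162 := by decide +kernel

/-- The involutions of `C(z)` other than `z`. -/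
abbrev Outer : Type u := {i : L // orderOf i = 2 ∧ Commute i M.z ∧ i ≠ M.z}

/-- As an element of the centraliser. -/
def Outer.toCz (i : Outer M) : Cz M := ⟨i.1, (mem_Cz M).mpr i.2.2.1⟩

theorem outer_coord (i : Outer M) : ∃ a : P9, coord M i.toCz = .sr a := by
  obtain ⟨k, hk⟩ := exists_par M i.toCz
  rcases h : coord M i.toCz with a | a
  · exfalso
    rw [h] at hk
    refine M.invol_outer i.1 i.2.1 i.2.2.1 i.2.2.2 (el M a) (el_mem M a) k k.2 ?_
    exact congrArg Subtype.val hk
  · exact ⟨a, rfl⟩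

/-- The reflection of an outer involution. -/
noncomputable def pos (i : Outer M) : P9 := (outer_coord M i).choose

theorem coord_pos (i : Outer M) : coord M i.toCz = .sr (pos M i) := (outer_coord M i).choose_spec

theorem coord_el {c : Cz M} {p : P9} (h : (c : L) = el M p) : coord M c = .r p :=
  coord_eq M (one_mem M.K) (g := .r p) (by rw [h, mul_one]; rfl)

theorem card_fiber (p : P9) : Nat.card {i : Outer M // pos M i = p} = M.w := by
  classical
  haveI : Fintype (Outer M) := Fintype.ofFinite _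
  have hshift : ∀ a e : P9, Nat.card {i : Outer M // pos M i = a} ≤
      Nat.card {i : Outer M // pos M i = a + e} := by
    intro a e
    have hcz : el M e * M.z = M.z * el M e := el_comm_z M e
    let f : Outer M → Outer M := fun i => ⟨el M e * i.1 * (el M e)⁻¹, by
      have hc : Commute (el M e) M.z := el_comm_z M e
      refine ⟨?_, (hc.mul_left i.2.2.1).mul_left hc.inv_left, fun h => i.2.2.2 ?_⟩
      · exact (MulEquiv.orderOf_eq (MulAut.conj (el M e)) i.1).trans i.2.1
      · calc i.1 = (el M e)⁻¹ * (el M e * i.1 * (el M e)⁻¹) * el M e := by group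
          _ = (el M e)⁻¹ * (M.z * el M e) := by rw [h, mul_assoc]
          _ = M.z := by rw [← hcz, inv_mul_cancel_left]⟩
    have hf : ∀ i, pos M (f i) = pos M i + e := by
      intro i
      let c : Cz M := ⟨el M e, (mem_Cz M).mpr (el_comm_z M e)⟩
      have h1 : (f i).toCz = c * i.toCz * c⁻¹ := Subtype.ext rfl
      have h2 := coord_pos M (f i)
      rw [h1, map_mul, map_mul, map_inv, coord_el M (c := c) (p := e) rfl, coord_pos] at h2
      simp only [GDih.r_mul_sr, GDih.inv_r, GDih.sr_mul_r, GDih.sr.injEq] at h2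
      rw [← h2]
      have : ∀ a e : P9, a - e + -e = a + e := by decide +kernel
      exact this _ _
    refine Nat.card_le_card_of_injective
      (fun i : {i : Outer M // pos M i = a} => (⟨f i.1, by rw [hf, i.2]⟩ : {i : Outer M // pos M i = a + e}))
      fun i j h => Subtype.ext (Subtype.ext ?_)
    exact mul_left_cancel (mul_right_cancel (congrArg (fun x => ((x.1 : Outer M) : L)) h))
  have hall : ∀ a, Nat.card {i : Outer M // pos M i = a} = Nat.card {i : Outer M // pos M i = p} :=
    fun a => le_antisymm (by simpa using hshift a (p - a)) (by simpa using hshift p (a - p))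
  have h := M.invol_card
  rw [show Nat.card {i : L // orderOf i = 2 ∧ Commute i M.z ∧ i ≠ M.z} =
      Nat.card (Σ a : P9, {i : Outer M // pos M i = a}) from
      (Nat.card_congr (Equiv.sigmaFiberEquiv (pos M))).symm, Nat.card_sigma,
    Finset.sum_congr rfl fun a _ => hall a, Finset.sum_const, Finset.card_univ, smul_eq_mul,
    Fintype.card_prod, ZMod.card] at h
  omega

theorem sum_outer [Fintype (Outer M)] (F : P9 → ℂ) :
    ∑ i : Outer M, F (pos M i) = (M.w : ℂ) * ∑ a, F a := by
  classical
  rw [← Fintype.sum_fiberwise (pos M) (fun i => F (pos M i)), Finset.mul_sum]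
  refine Finset.sum_congr rfl fun a _ => ?_
  rw [Finset.sum_congr rfl (g := fun _ => F a) (fun i _ => by rw [i.2]), Finset.sum_const,
    Finset.card_univ, nsmul_eq_mul, ← Nat.card_eq_fintype_card, card_fiber]

theorem inv_of_involution {i : L} (hi : orderOf i = 2) : i⁻¹ = i :=
  inv_eq_of_mul_eq_one_right (by rw [← pow_two, ← hi, pow_orderOf_eq_one])

theorem coord_sq {d : Cz M} {a : P9} (hd : coord M d = .r a) (h : d * d = 1) : a = 0 := by
  have h2 := congrArg (coord M) h
  rw [map_mul, hd, GDih.r_mul_r, map_one, GDih.one_def, GDih.r.injEq] at h2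
  revert h2
  have : ∀ a : P9, a + a = 0 → a = 0 := by decide +kernel
  exact this a

theorem invol_conj {i : L} (h : IsConj M.z i) : orderOf i = 2 := by
  obtain ⟨g, rfl⟩ := isConj_iff.mp h
  exact (MulEquiv.orderOf_eq (MulAut.conj g) M.z).trans M.hz

theorem pairs_inner {c : Cz M} (hc : InD M c) {i j : L} (hi : IsConj M.z i) (hj : IsConj M.z j)
    (h : i * j = c) : (Commute i M.z ∧ i ≠ M.z) ∧ (Commute j M.z ∧ j ≠ M.z) := by
  have hi2 := inv_of_involution (invol_conj M hi)
  have hj2 := inv_of_involution (invol_conj M hj)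
  have hij : i * (c : L) * i⁻¹ = (c : L)⁻¹ := by
    rw [← h, mul_inv_rev, hi2, hj2]
    calc i * (i * j) * i = (i * i) * j * i := by group
      _ = j * i := by rw [mul_eq_one_iff_eq_inv.mpr hi2.symm, one_mul]
  have hiC : i ∈ Cz M := hc.stay M (g := i) (by rw [hij]; exact inv_mem c.2)
  have hj' : j = i * c := by
    rw [← h, ← mul_assoc, mul_eq_one_iff_eq_inv.mpr hi2.symm, one_mul]
  have hjC : j ∈ Cz M := by rw [hj']; exact mul_mem hiC c.2
  obtain ⟨p, hp, hcp⟩ := hc
  have hzc : coord M (⟨M.z, (mem_Cz M).mpr (Commute.refl _)⟩ : Cz M) = 1 := coord_mem_K M M.zK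
  refine ⟨⟨(mem_Cz M).mp hiC, fun e => hp ?_⟩, ⟨(mem_Cz M).mp hjC, fun e => hp ?_⟩⟩
  · have e2 : (⟨j, hjC⟩ : Cz M) = ⟨M.z, (mem_Cz M).mpr (Commute.refl _)⟩ * c :=
      Subtype.ext (by show j = M.z * c; rw [hj', e])
    have e3 : coord M ⟨j, hjC⟩ = .r p := by rw [e2, map_mul, hzc, one_mul, hcp]
    exact coord_sq M e3 (Subtype.ext (mul_eq_one_iff_eq_inv.mpr hj2.symm))
  · have e2 : c = (⟨i, hiC⟩ : Cz M) * ⟨M.z, (mem_Cz M).mpr (Commute.refl _)⟩ :=
      Subtype.ext (by show (c : L) = i * M.z; rw [← e, h])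
    have e3 : coord M ⟨i, hiC⟩ = .r p := by
      rw [e2, map_mul, hzc, mul_one] at hcp
      exact hcp
    exact coord_sq M e3 (Subtype.ext (mul_eq_one_iff_eq_inv.mpr hi2.symm))

/-- The weighted number of pairs. -/
theorem sum_pairCount [Fintype (Cz M)] :
    ∑ c : Cz M, phi M 0 c * (pairCount M.z (c : L) : ℂ) = 162 * (M.w : ℂ) ^ 2 := by
  classical
  haveI : Fintype (Outer M) := Fintype.ofFinite _
  have hterm : ∀ c : Cz M, phi M 0 c * (pairCount M.z (c : L) : ℂ) =
      ∑ i : Outer M, ∑ j : Outer M, if i.toCz * j.toCz = c then phi M 0 (i.toCz * j.toCz) else 0 := by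
    intro c
    by_cases h0 : phi M 0 c = 0
    · rw [h0, zero_mul]
      symm
      refine Finset.sum_eq_zero fun i _ => Finset.sum_eq_zero fun j _ => ?_
      split_ifs with h
      · rw [h, h0]
      · rfl
    have hc := phi_inD M h0
    have e1 : pairCount M.z (c : L) = Nat.card {p : Outer M × Outer M // p.1.toCz * p.2.toCz = c} := by
      rw [pairCount]
      refine Nat.card_congr
        { toFun := fun p => ⟨(⟨p.1.1, invol_conj M p.2.1, (pairs_inner M hc p.2.1 p.2.2.1 p.2.2.2).1⟩,
            ⟨p.1.2, invol_conj M p.2.2.1, (pairs_inner M hc p.2.1 p.2.2.1 p.2.2.2).2⟩),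
            Subtype.ext p.2.2.2⟩
          invFun := fun p => ⟨(p.1.1.1, p.1.2.1), (M.one_class _ p.1.1.2.1).symm,
            (M.one_class _ p.1.2.2.1).symm, congrArg Subtype.val p.2⟩
          left_inv := fun p => rfl
          right_inv := fun p => rfl }
    rw [e1, Nat.card_eq_fintype_card, Fintype.card_subtype, ← Fintype.sum_prod_type',
      ← Finset.sum_filter, Finset.sum_congr rfl (g := fun _ => phi M 0 c)
        (fun p hp => by rw [(Finset.mem_filter.mp hp).2]), Finset.sum_const, nsmul_eq_mul, mul_comm]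
  rw [Finset.sum_congr rfl fun c _ => hterm c, Finset.sum_comm]
  simp only [Finset.sum_comm (s := (Finset.univ : Finset (Cz M))), Finset.sum_ite_eq,
    Finset.mem_univ, if_true]
  have hphi : ∀ i j : Outer M, phi M 0 (i.toCz * j.toCz) =
      ((dfun 0 (GDih.r (pos M j - pos M i)) : ℤ) : ℂ) := fun i j => by
    simp [phi, coord_pos]
  simp only [hphi]
  rw [Finset.sum_congr rfl fun i _ => sum_outer M fun b => ((dfun 0 (GDih.r (b - pos M i)) : ℤ) : ℂ),
    sum_outer M fun a => (M.w : ℂ) * ∑ b, ((dfun 0 (GDih.r (b - a)) : ℤ) : ℂ),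
    ← Finset.mul_sum]
  have h := congrArg (fun n : ℤ => (n : ℂ)) sum_lin_diff
  push_cast at h
  rw [h]
  ring

end H61.TwoAn
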