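import Cfsg.Agent.H61.TwoAn.Values
import Cfsg.Agent.H61.TwoAn.Count

/-!
The order formula for the configuration `H33.TwoAn.LCfg`.
-/

set_option autoImplicit false
set_option linter.unusedSectionVars false
set_option linter.style.haveILetI false
set_option maxHeartbeats 4000000

open Cfsg
open H35.DA
open H13.GL23 (Signed1 ci_zero_comm)
open scoped ComplexConjugate

namespace H61.TwoAn

universe u

variable {L : Type u} [Group L] [Fintype L] (M : H33.TwoAn.LCfg L)

theorem z_mul_el_pow (p : P9) : (M.z * el M p) ^ 3 = M.z ∧ (M.z * el M p) ^ 4 = el M p := by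
  have hc : Commute M.z (el M p) := (el_comm_z M p).symm
  have hz : M.z ^ 2 = 1 := by rw [← M.hz, pow_orderOf_eq_one]
  have ha := M.cube _ (el_mem M p)
  constructor
  · rw [hc.mul_pow, ha, mul_one, pow_succ, hz, one_mul]
  · rw [hc.mul_pow, show (4 : ℕ) = 2 * 2 by norm_num, pow_mul, hz, one_pow, one_mul,
      show 2 * 2 = 3 + 1 by norm_num, pow_succ, ha, one_mul]

theorem z_el_real (p : P9) : IsConj (M.z * el M p) (M.z * el M p)⁻¹ := by
  refine isConj_iff.mpr ⟨M.t, ?_⟩
  have hc : Commute M.z (el M p) := (el_comm_z M p).symm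
  have hzi : M.z⁻¹ = M.z := inv_of_involution M.hz
  calc M.t * (M.z * el M p) * M.t⁻¹ = (M.t * M.z * M.t⁻¹) * (M.t * el M p * M.t⁻¹) := by group
    _ = M.z * (el M p)⁻¹ := by rw [M.t_inv _ (el_mem M p), M.tz.eq, mul_inv_cancel_right]
    _ = (M.z * el M p)⁻¹ := by rw [hc.eq, mul_inv_rev, hzi]

theorem el_real (p : P9) : IsConj (el M p) (el M p)⁻¹ :=
  isConj_iff.mpr ⟨M.t, M.t_inv _ (el_mem M p)⟩

theorem z_el_six (p : P9) : (M.z * el M p) ^ 6 = 1 := by
  rw [show 6 = 3 * 2 by norm_num, pow_mul, (z_mul_el_pow M p).1, ← M.hz, pow_orderOf_eq_one]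

theorem el_six (p : P9) : el M p ^ 6 = 1 := by
  rw [show 6 = 3 * 2 by norm_num, pow_mul, M.cube _ (el_mem M p), one_pow]

theorem inD_el {p : P9} (hp : p ≠ 0) {c : Cz M}
    (hc : (c : L) = el M p ∨ (c : L) = M.z * el M p) : coord M c = .r p ∧ InD M c := by
  have h : coord M c = .r p := by
    rcases hc with h | h
    · exact coord_el M h
    · refine coord_eq M M.zK (g := .r p) ?_
      rw [h]; exact (el_comm_z M p).symm.eq
  exact ⟨h, p, hp, h⟩

/-- Two special elements of `A ∪ z A` with non-opposite coordinates are not conjugate. -/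
theorem not_conj {p q : P9} (hp : p ≠ 0) (hq : q ≠ 0) (hne : q ≠ p) (hne' : q ≠ -p) {c d : Cz M}
    (hc : (c : L) = el M p ∨ (c : L) = M.z * el M p) (hd : (d : L) = el M q ∨ (d : L) = M.z * el M q) :
    ¬ IsConj (c : L) (d : L) := by
  intro h
  obtain ⟨g, hg⟩ := isConj_iff.mp h
  obtain ⟨ec, hcD⟩ := inD_el M hp hc
  obtain ⟨ed, -⟩ := inD_el M hq hd
  have hgC : g ∈ Cz M := hcD.stay M (g := g) (by rw [hg]; exact d.2)
  have h1 := congrArg (coord M) (show (⟨g, hgC⟩ : Cz M) * c * ⟨g, hgC⟩⁻¹ = d from Subtype.ext hg)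
  rw [map_mul, map_mul, map_inv, ec, ed] at h1
  have key : ∀ (u : GDih P9) (p q : P9), u * .r p * u⁻¹ = .r q → q = p ∨ q = -p := by decide +kernel
  exact (key _ _ _ h1).elim hne hne'

variable {V : L → ℂ} {Y : Fin 4 → L → ℂ}

/-- The members of the family as a vector. -/
def fam (V : L → ℂ) (Y : Fin 4 → L → ℂ) : Fin 6 → L → ℂ :=
  ![fun _ => 1, V, Y 0, Y 1, Y 2, Y 3]

/-- Their values at a special element with coordinate `p` and value `a` of `V`. -/
def vals (p : P9) (a : ℤ) : Fin 6 → ℤ :=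
  ![1, a, dfun 0 (.r p) - 1 - a, dfun 1 (.r p) - 1 - a, dfun 2 (.r p) - 1 - a, dfun 3 (.r p) - 1 - a]

theorem sum_vals_sq (p : P9) (hp : p ≠ 0) (a : ℤ) :
    ∑ j, vals p a j ^ 2 = 14 - 10 * a + 5 * a ^ 2 := by
  have : ∀ p : P9, p ≠ 0 →
      (dfun 0 (.r p) + dfun 1 (.r p) + dfun 2 (.r p) + dfun 3 (.r p) = 9 ∧
        dfun 0 (.r p) ^ 2 + dfun 1 (.r p) ^ 2 + dfun 2 (.r p) ^ 2 + dfun 3 (.r p) ^ 2 = 27) := by
    decide +kernel
  obtain ⟨h1, h2⟩ := this p hp
  simp only [vals, Fin.sum_univ_six]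
  simp
  linear_combination h2 - 2 * (1 + a) * h1

theorem order_aux : ∃ j : ℤ, j ≠ 0 ∧
    (Nat.card L : ℤ) * j ^ 2 = 9 * (M.w : ℤ) ^ 4 * (18 * j + 1) * (9 * j + 1) := by
  classical
  haveI : Fintype (Cz M) := Fintype.ofFinite _
  obtain ⟨V, Y, hV, hY, h1V, h1Y, hVY, hYY, hPhi⟩ := exists_family M
  have hS : ∀ j, Signed1 (fam V Y j) := by
    intro j; fin_cases j <;> first | exact signed_one | exact hV | exact hY _
  have hfam_eq : fam V Y = Fin.cons (fun _ => 1) (Fin.cons V Y) := by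
    funext j; fin_cases j <;> rfl
  have horth : ∀ i j, i ≠ j → classInner (fam V Y i) (fam V Y j) = 0 := by
    rw [hfam_eq]
    intro i j hij
    induction i using Fin.cases with
    | zero =>
      induction j using Fin.cases with
      | zero => exact absurd rfl hij
      | succ j =>
        induction j using Fin.cases with
        | zero => simp only [Fin.cons_zero, Fin.cons_succ]; exact h1V
        | succ j => simp only [Fin.cons_zero, Fin.cons_succ]; exact h1Y j
    | succ i =>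
      induction j using Fin.cases with
      | zero =>
        induction i using Fin.cases with
        | zero => simp only [Fin.cons_zero, Fin.cons_succ]; exact ci_zero_comm h1V
        | succ i => simp only [Fin.cons_zero, Fin.cons_succ]; exact ci_zero_comm (h1Y i)
      | succ j =>
        induction i using Fin.cases with
        | zero =>
          induction j using Fin.cases with
          | zero => exact absurd rfl hij
          | succ j => simp only [Fin.cons_zero, Fin.cons_succ]; exact hVY j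
        | succ i =>
          induction j using Fin.cases with
          | zero => simp only [Fin.cons_zero, Fin.cons_succ]; exact ci_zero_comm (hVY i)
          | succ j =>
            simp only [Fin.cons_succ]
            exact hYY i j fun e => hij (by rw [e])
  have hY_val : ∀ k (x : L), Y k x = Phi M k x - 1 - V x := fun k x => by
    have := congrFun (hPhi k) x
    simp only [Pi.add_apply] at this
    linear_combination -this
  have hfam : ∀ (p : P9) (c : Cz M), p ≠ 0 → ((c : L) = el M p ∨ (c : L) = M.z * el M p) →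
      ∀ a : ℤ, V c = a → ∀ j, fam V Y j c = vals p a j := by
    intro p c hp hc a ha j
    obtain ⟨e, hD⟩ := inD_el M hp hc
    have hP : ∀ k, Phi M k c = (dfun k (.r p) : ℂ) := fun k => by
      rw [Phi_special M k c hD, phi, e]
    fin_cases j <;> simp [fam, vals, hY_val, hP, ha]
  -- integer values of `V`
  let za : P9 → Cz M := fun p => ⟨M.z * el M p, (mem_Cz M).mpr
    ((Commute.refl M.z).mul_left (el_comm_z M p))⟩
  let ea : P9 → Cz M := fun p => ⟨el M p, (mem_Cz M).mpr (el_comm_z M p)⟩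
  have hall : ∀ p : P9, ∃ a b c : ℤ, V (za p : L) = a ∧ V M.z = b ∧ V (ea p : L) = c ∧
      3 ∣ a - b ∧ 2 ∣ a - c := by
    intro p
    obtain ⟨a, b, c, ha, hb, hc, h3, h2⟩ := sixth_signed hV (z_el_six M p) (z_el_real M p)
    rw [(z_mul_el_pow M p).1] at hb
    rw [(z_mul_el_pow M p).2] at hc
    exact ⟨a, b, c, ha, hb, hc, h3, h2⟩
  choose A B C hA hB hC h3 h2 using hall
  obtain ⟨bz, hbz⟩ : ∃ bz : ℤ, V M.z = bz := ⟨_, hB 0⟩
  have hBz : ∀ p, B p = bz := fun p => by exact_mod_cast (hB p).symm.trans hbz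
  simp only [hBz] at h3
  obtain ⟨X, hX⟩ := H16.gen_one_int hV.1
  have hC3 : ∀ p, 3 ∣ C p - X := by
    intro p
    obtain ⟨a, b, c, ha, hb, -, h, -⟩ := sixth_signed hV (el_six M p) (el_real M p)
    rw [M.cube _ (el_mem M p), hX] at hb
    have e1 : a = C p := by exact_mod_cast ha.symm.trans (hC p)
    have e2 : b = X := by exact_mod_cast hb.symm
    rwa [e1, e2] at h
  have hzX : 2 ∣ bz - X := by
    obtain ⟨a, b, c, ha, -, hc, -, h⟩ := sixth_signed hV (g := M.z)
      (by rw [show 6 = 2 * 3 by norm_num, pow_mul, ← M.hz, pow_orderOf_eq_one, one_pow])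
      (by rw [inv_of_involution M.hz])
    rw [show M.z ^ 4 = 1 by rw [show 4 = 2 * 2 by norm_num, pow_mul, ← M.hz, pow_orderOf_eq_one, one_pow],
      hX] at hc
    have e1 : a = bz := by exact_mod_cast ha.symm.trans hbz
    have e2 : c = X := by exact_mod_cast hc.symm
    rwa [e1, e2] at h
  -- centraliser bounds
  have hle : ∀ p : P9, Nat.card (Subgroup.centralizer ({(za p : L)} : Set L)) ≤
      Nat.card (Subgroup.centralizer ({el M p} : Set L)) := by
    intro p
    refine Subgroup.card_le_of_le fun g hg => ?_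
    rw [Subgroup.mem_centralizer_singleton_iff] at hg ⊢
    have : Commute g ((M.z * el M p) ^ 4) := Commute.pow_right hg 4
    rwa [(z_mul_el_pow M p).2] at this
  have h18 : ∀ p : P9, p.2 ≠ 0 → Nat.card (Subgroup.centralizer ({el M p} : Set L)) = 18 := fun p hp =>
    M.cent_small _ (el_mem M p) (el_zpowers M hp)
  have h72 : ∀ p : P9, p.2 = 0 → p ≠ 0 → Nat.card (Subgroup.centralizer ({el M p} : Set L)) ≤ 72 := by
    intro p hp hp0
    have hp1 : p.1 ≠ 0 := fun e => hp0 (Prod.ext e hp)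
    have h0 : el M p = M.a₀ ∨ el M p = M.a₀⁻¹ := by
      rcases (show p.1.val = 1 ∨ p.1.val = 2 by
        have := p.1.val_lt; have := (ZMod.val_ne_zero p.1).mpr hp1; omega) with e | e
      · left; simp [el, hp, e]
      · right
        simp only [el, hp, e, ZMod.val_zero, pow_zero, mul_one]
        exact eq_inv_of_mul_eq_one_left (by rw [← pow_succ]; exact M.cube _ M.ha₀.1)
    rcases h0 with e | e <;> rw [e]
    · exact M.cent_big
    · refine (le_of_eq ?_).trans M.cent_big
      congr 2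
      ext g
      simp only [Subgroup.mem_centralizer_singleton_iff]
      exact ⟨fun h => (Commute.inv_right_iff.mp h), fun h => (Commute.inv_right h)⟩
  -- the values off the big line
  have small : ∀ (x : P9 → Cz M) (D : P9 → ℤ), (∀ p, (x p : L) = el M p ∨ (x p : L) = M.z * el M p) →
      (∀ p, IsConj (x p : L) (x p : L)⁻¹) →
      (∀ p, V (x p : L) = D p) →
      (∀ p, Nat.card (Subgroup.centralizer ({(x p : L)} : Set L)) ≤
        Nat.card (Subgroup.centralizer ({el M p} : Set L))) →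
      (∃ b, ∀ p, 3 ∣ D p - b) → ∀ p : P9, p.2 ≠ 0 → D p = 1 := by
    rintro x D hx hr hD hc ⟨b, hb⟩
    have hbd : ∀ p : P9, p.2 ≠ 0 → 0 ≤ D p ∧ D p ≤ 2 := by
      intro p hp
      have hp0 : p ≠ 0 := fun e => hp (by rw [e]; rfl)
      obtain ⟨h, -⟩ := col_bound hS horth (hr p) (hr p) (hfam p (x p) hp0 (hx p) _ (hD p))
        (hfam p (x p) hp0 (hx p) _ (hD p))
      rw [sum_vals_sq p hp0] at h
      have := hc p
      rw [h18 p hp] at this
      have : (Nat.card (Subgroup.centralizer ({(x p : L)} : Set L)) : ℤ) ≤ 18 := by exact_mod_cast this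
      constructor <;> nlinarith
    have heq : ∀ p q : P9, p.2 ≠ 0 → q.2 ≠ 0 → D p = D q := fun p q hp hq => by
      have := hbd p hp; have := hbd q hq; have := hb p; have := hb q
      omega
    intro p hp
    rw [heq p (0, 1) hp (by decide)]
    have hp1 : ((0, 1) : P9) ≠ 0 := by decide
    have hq1 : ((1, 1) : P9) ≠ 0 := by decide
    obtain ⟨-, h⟩ := col_bound hS horth (hr (0, 1)) (hr (1, 1))
      (hfam _ (x (0, 1)) hp1 (hx _) _ (hD _)) (hfam _ (x (1, 1)) hq1 (hx _) _ (hD _))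
    have h := h (not_conj M hp1 hq1 (by decide) (by decide) (hx _) (hx _))
    rw [sum_vals_sq _ hp1, sum_vals_sq _ hq1] at h
    have e := heq (1, 1) (0, 1) (by decide) (by decide)
    rw [e] at h
    have hval : ∑ j, vals (0, 1) (D (0, 1)) j * vals (1, 1) (D (0, 1)) j =
        5 * (D (0, 1) - 1) ^ 2 := by
      simp only [vals, Fin.sum_univ_six]
      simp [dfun, lin]
      have h31 : (3 : ZMod 3) = 0 := rfl
      simp [h31, show (2 : ZMod 3) ≠ 0 by decide, show (1 + 1 : ZMod 3) ≠ 0 by decide,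
        show (1 + 2 : ZMod 3) = 0 by decide]
      ring
    rw [hval] at h
    have hs1 := hc (0, 1)
    rw [h18 _ (by decide)] at hs1
    have hs2 := hc (1, 1)
    rw [h18 _ (by decide)] at hs2
    obtain ⟨l0, u0⟩ := hbd (0, 1) (by decide)
    obtain ⟨c1, -⟩ := col_bound hS horth (hr (0, 1)) (hr (0, 1))
      (hfam _ (x (0, 1)) hp1 (hx _) _ (hD _)) (hfam _ (x (0, 1)) hp1 (hx _) _ (hD _))
    obtain ⟨c2, -⟩ := col_bound hS horth (hr (1, 1)) (hr (1, 1))
      (hfam _ (x (1, 1)) hq1 (hx _) _ (hD _)) (hfam _ (x (1, 1)) hq1 (hx _) _ (hD _))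
    rw [sum_vals_sq _ hp1] at c1
    rw [sum_vals_sq _ hq1, e] at c2
    have m1 : (Nat.card (Subgroup.centralizer ({(x (0, 1) : L)} : Set L)) : ℤ) ≤ 18 := by exact_mod_cast hs1
    have m2 : (Nat.card (Subgroup.centralizer ({(x (1, 1) : L)} : Set L)) : ℤ) ≤ 18 := by exact_mod_cast hs2
    generalize D (0, 1) = d at h l0 u0 c1 c2 ⊢
    generalize (Nat.card (Subgroup.centralizer ({(x (0, 1) : L)} : Set L)) : ℤ) = n1 at h c1 m1
    generalize (Nat.card (Subgroup.centralizer ({(x (1, 1) : L)} : Set L)) : ℤ) = n2 at h c2 m2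
    by_contra hd1
    rcases (show d = 0 ∨ d = 2 by omega) with rfl | rfl <;> norm_num at h c1 c2 <;>
      nlinarith [mul_le_mul (show n1 - 14 ≤ 4 by linarith) (show n2 - 14 ≤ 4 by linarith)
        (show (0 : ℤ) ≤ n2 - 14 by linarith) (show (0 : ℤ) ≤ 4 by norm_num)]
  have hza : ∀ p, (za p : L) = el M p ∨ (za p : L) = M.z * el M p := fun p => Or.inr rfl
  have hea : ∀ p, (ea p : L) = el M p ∨ (ea p : L) = M.z * el M p := fun p => Or.inl rfl
  have hA1 := small za A hza (fun p => z_el_real M p) hA hle ⟨bz, h3⟩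
  have hC1 := small ea C hea (fun p => el_real M p) hC (fun p => le_rfl) ⟨X, hC3⟩
  have hbz3 : 3 ∣ bz - 1 := by
    have := h3 (0, 1)
    rw [hA1 _ (by decide)] at this
    omega
  have hX3 : 3 ∣ X - 1 := by
    have := hC3 (0, 1)
    rw [hC1 _ (by decide)] at this
    omega
  -- the big line
  have hbig : ∀ p : P9, p ≠ 0 → A p = 1 ∧ C p = 1 := by
    intro p hp0
    by_cases hp : p.2 = 0
    swap
    · exact ⟨hA1 p hp, hC1 p hp⟩
    have hcd : ¬ IsConj (za p : L) (ea p : L) := by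
      intro h
      obtain ⟨g, hg⟩ := isConj_iff.mp h
      have h3' := congrArg (fun x : L => x ^ 3) hg
      simp only [conj_pow] at h3'
      have e1 : (za p : L) ^ 3 = M.z := (z_mul_el_pow M p).1
      have e2 : (ea p : L) ^ 3 = 1 := M.cube _ (el_mem M p)
      rw [e1, e2] at h3'
      have : M.z = 1 := conj_eq_one_iff.mp h3'
      have hz := M.hz
      rw [this, orderOf_one] at hz
      omega
    obtain ⟨b1, hx⟩ := col_bound hS horth (z_el_real M p) (el_real M p)
      (hfam p (za p) hp0 (hza p) _ (hA p)) (hfam p (ea p) hp0 (hea p) _ (hC p))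
    obtain ⟨b2, -⟩ := col_bound hS horth (el_real M p) (el_real M p)
      (hfam p (ea p) hp0 (hea p) _ (hC p)) (hfam p (ea p) hp0 (hea p) _ (hC p))
    have hx := hx hcd
    rw [sum_vals_sq p hp0] at b1 b2 hx
    rw [sum_vals_sq p hp0] at hx
    have hval : ∑ j, vals p (A p) j * vals p (C p) j = 9 + 5 * (A p - 1) * (C p - 1) := by
      have : ∀ p : P9, p ≠ 0 →
          (dfun 0 (.r p) + dfun 1 (.r p) + dfun 2 (.r p) + dfun 3 (.r p) = 9 ∧
            dfun 0 (.r p) ^ 2 + dfun 1 (.r p) ^ 2 + dfun 2 (.r p) ^ 2 + dfun 3 (.r p) ^ 2 = 27) := by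
        decide +kernel
      obtain ⟨d1, d2⟩ := this p hp0
      simp only [vals, Fin.sum_univ_six]
      simp
      linear_combination d2 - (2 + A p + C p) * d1
    rw [hval] at hx
    have n1 : (Nat.card (Subgroup.centralizer ({(za p : L)} : Set L)) : ℤ) ≤ 72 := by
      exact_mod_cast (hle p).trans (h72 p hp hp0)
    have n2 : (Nat.card (Subgroup.centralizer ({(ea p : L)} : Set L)) : ℤ) ≤ 72 := by
      exact_mod_cast h72 p hp hp0
    change (14 - 10 * A p + 5 * A p ^ 2 : ℤ) ≤ Nat.card (Subgroup.centralizer ({(za p : L)} : Set L)) at b1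
    generalize (Nat.card (Subgroup.centralizer ({(za p : L)} : Set L)) : ℤ) = N1 at b1 hx n1
    generalize (Nat.card (Subgroup.centralizer ({(ea p : L)} : Set L)) : ℤ) = N2 at b2 hx n2
    have hpar := h2 p
    have hA3 := h3 p
    have hC3' := hC3 p
    have lA : -2 ≤ A p ∧ A p ≤ 4 := by constructor <;> nlinarith only [b1, n1]
    have lC : -2 ≤ C p ∧ C p ≤ 4 := by constructor <;> nlinarith only [b2, n2]
    have hca : (A p = 1 ∧ C p = 1) ∨ ((A p = -2 ∨ A p = 4) ∧ (C p = -2 ∨ C p = 4)) := by omega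
    rcases hca with h | ⟨a, c⟩
    · exact h
    exfalso
    generalize A p = u at a b1 hx
    generalize C p = v at c b2 hx
    rcases a with rfl | rfl <;> rcases c with rfl | rfl <;> norm_num at b1 b2 hx <;>
      nlinarith only [b1, b2, hx, n1, n2, mul_le_mul (show N1 - 54 ≤ 18 by linarith) (show N2 - 54 ≤ 18 by linarith)
        (show (0 : ℤ) ≤ N2 - 54 by linarith) (show (0 : ℤ) ≤ 18 by norm_num)]
  -- congruences modulo nine
  let f : Multiplicative (P9 × ZMod 2) →* L :=
    MonoidHom.mk' (fun x => el M x.toAdd.1 * M.z ^ x.toAdd.2.val) fun x y => by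
      have hz2 : M.z ^ 2 = 1 := by rw [← M.hz, pow_orderOf_eq_one]
      simp only [toAdd_mul, Prod.fst_add, Prod.snd_add, el_add, ZMod.val_add, ← pow_eq_pow_mod _ hz2,
        pow_add]
      rw [mul_assoc, mul_assoc]
      congr 1
      rw [← mul_assoc, ← mul_assoc, ((el_comm_z M y.toAdd.1).pow_right x.toAdd.2.val).eq]
  have hVres : IsGeneralizedCharacter (Multiplicative (P9 × ZMod 2)) (fun x => V (f x)) := by
    obtain ⟨a, b, ha, hb, e⟩ := hV.1
    exact ⟨fun x => a (f x), fun x => b (f x), H12.IsCharacter.comp ha f, H12.IsCharacter.comp hb f,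
      funext fun x => congrFun e (f x)⟩
  let sg : Multiplicative (P9 × ZMod 2) →* ℂˣ :=
    MonoidHom.mk' (fun x => (-1 : ℂˣ) ^ x.toAdd.2.val) fun x y => by
      simp only [toAdd_mul, Prod.snd_add, ZMod.val_add,
        ← pow_eq_pow_mod _ (show (-1 : ℂˣ) ^ 2 = 1 by simp), pow_add]
  obtain ⟨n₁, hn₁⟩ := H16.gen_inner_int hVres
    (H16.gen_of_char (H12.isCharacter_one (G := Multiplicative (P9 × ZMod 2))))
  obtain ⟨n₂, hn₂⟩ := H16.gen_inner_int hVres (H16.gen_of_char (H12.isCharacter_monoidHom sg))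
  have hEl : ∀ p : P9, V (el M p) = ((if p = 0 then X else 1 : ℤ) : ℂ) := fun p => by
    split_ifs with h
    · rw [h, el_zero, hX]
    · rw [show el M p = (ea p : L) from rfl, hC, (hbig p h).2]
  have hZl : ∀ p : P9, V (el M p * M.z) = ((if p = 0 then bz else 1 : ℤ) : ℂ) := fun p => by
    split_ifs with h
    · rw [h, el_zero, one_mul, hbz]
    · rw [(el_comm_z M p).eq, show M.z * el M p = (za p : L) from rfl, hA, (hbig p h).1]
  have hs8 : ∀ x : ℤ, ∑ p : P9, (if p = 0 then x else 1 : ℤ) = x + 8 := by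
    intro x
    rw [← Finset.add_sum_erase _ _ (Finset.mem_univ (0 : P9)), if_pos rfl,
      Finset.sum_congr rfl (g := fun _ => (1 : ℤ)) fun p hp => if_neg (Finset.ne_of_mem_erase hp),
      Finset.sum_const]
    simp
  have k1 : X + 8 + (bz + 8) = 18 * n₁ := by
    have : ((X + 8 + (bz + 8) : ℤ) : ℂ) = ((18 * n₁ : ℤ) : ℂ) := by
      rw [H12.classInner_def, Nat.card_eq_fintype_card] at hn₁
      rw [Int.cast_mul, ← hn₁, Fintype.card_multiplicative, Fintype.card_prod, Fintype.card_prod,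
        ZMod.card, ZMod.card, ← Equiv.sum_comp Multiplicative.ofAdd, Fintype.sum_prod_type_right,
        show (Finset.univ : Finset (ZMod 2)) = {0, 1} by decide, Finset.sum_pair (by decide)]
      simp [f, hEl, hZl, ← hs8, ZMod.val_one]
    exact_mod_cast this
  have k2 : X + 8 - (bz + 8) = 18 * n₂ := by
    have : ((X + 8 - (bz + 8) : ℤ) : ℂ) = ((18 * n₂ : ℤ) : ℂ) := by
      rw [H12.classInner_def, Nat.card_eq_fintype_card] at hn₂
      rw [Int.cast_mul, ← hn₂, Fintype.card_multiplicative, Fintype.card_prod, Fintype.card_prod,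
        ZMod.card, ZMod.card, ← Equiv.sum_comp Multiplicative.ofAdd, Fintype.sum_prod_type_right,
        show (Finset.univ : Finset (ZMod 2)) = {0, 1} by decide, Finset.sum_pair (by decide)]
      simp [f, sg, hEl, hZl, ← hs8, ZMod.val_one, sub_eq_add_neg]
    exact_mod_cast this
  -- the column of `z`
  have hz16 : M.z ^ 16 = 1 := by
    rw [show 16 = 2 * 8 by norm_num, pow_mul, ← M.hz, pow_orderOf_eq_one, one_pow]
  have hYz : ∀ k, Y k M.z = ((-1 - bz : ℤ) : ℂ) := fun k => by
    rw [hY_val, Phi_two M k hz16, hbz]; push_cast; ring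
  have hcolz := (col_bound hS horth (g := M.z) (h := M.z) (by rw [inv_of_involution M.hz])
    (by rw [inv_of_involution M.hz]) (s := ![1, bz, -1 - bz, -1 - bz, -1 - bz, -1 - bz])
    (t := ![1, bz, -1 - bz, -1 - bz, -1 - bz, -1 - bz])
    (fun j => by fin_cases j <;> simp [fam, hYz, hbz]) (fun j => by fin_cases j <;> simp [fam, hYz, hbz])).1
  rw [show Nat.card (Subgroup.centralizer ({M.z} : Set L)) = 9 * M.w ^ 2 from M.cardC] at hcolz
  simp [Fin.sum_univ_six] at hcolz
  have hbz1 : bz = 1 := by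
    have hrange : -7 ≤ bz ∧ bz ≤ 5 := by
      rcases M.hw with e | e <;> rw [e] at hcolz <;> norm_num at hcolz <;> constructor <;> nlinarith
    omega
  obtain ⟨j, hj⟩ : ∃ j, X = 18 * j + 1 := ⟨(X - 1) / 18, by omega⟩
  subst hbz1 hj
  -- the class equation
  have hphi : ∀ χ : IrrCharacter L, (Nat.card (Cz M) : ℂ)⁻¹ * ∑ c : Cz M,
      phi M 0 c * conj ((χ : L → ℂ) c) = classInner (Phi M 0) (χ : L → ℂ) := fun χ => by
    rw [Phi, H13.classInner_indFun_left _ _ (H12.irr_isClassFunction χ), H12.classInner_def]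
  set K2 : ℂ := ∑ χ : IrrCharacter L, (χ : L → ℂ) M.z * (χ : L → ℂ) M.z / (χ : L → ℂ) 1 *
    classInner (Phi M 0) (χ : L → ℂ) with hK2
  have hC0 : (Nat.card (Cz M) : ℂ) ≠ 0 := Nat.cast_ne_zero.mpr Nat.card_pos.ne'
  have heq : (Nat.card L : ℂ) * K2 = (Nat.card (Cz M) : ℂ) * (162 * (M.w : ℂ) ^ 2) := by
    rw [← sum_pairCount M, hK2]
    simp only [← hphi]
    simp only [Finset.mul_sum]
    rw [Finset.sum_comm]
    refine Finset.sum_congr rfl fun c _ => ?_
    have h := H13.GL23.sum_irr_pairs (t := M.z) (c : L)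
    rw [Finset.mul_sum] at h
    calc _ = (Nat.card (Cz M) : ℂ)⁻¹ * phi M 0 c * ∑ χ : IrrCharacter L, (Nat.card L : ℂ) *
          ((χ : L → ℂ) M.z * (χ : L → ℂ) M.z * conj ((χ : L → ℂ) c) / (χ : L → ℂ) 1) := by
          rw [Finset.mul_sum]
          exact Finset.sum_congr rfl fun χ _ => by ring
      _ = _ := by
          rw [h]; push_cast; field_simp
  have hsingle : ∀ (S : L → ℂ), Signed1 S → ∑ χ : IrrCharacter L,
      (χ : L → ℂ) M.z * (χ : L → ℂ) M.z / (χ : L → ℂ) 1 * classInner S (χ : L → ℂ) =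
        S M.z * S M.z / S 1 := by
    intro S hS'
    obtain ⟨χ₀, s, hs, rfl⟩ := signed_cases' hS'
    rw [Finset.sum_eq_single χ₀ (fun χ _ hne => ?_) (by simp)]
    · rw [H16.ci_smul_left, H16.ci_irr_self χ₀.2, mul_one]
      rcases hs with e | e <;> simp [e] <;> ring
    · rw [H16.ci_smul_left, H16.ci_irr_ne χ₀.2 χ.2 (fun e => hne (Subtype.ext e.symm))]
      simp
  have hK : K2 = 1 + 1 / ((18 * j + 1 : ℤ) : ℂ) - 4 / ((18 * j + 2 : ℤ) : ℂ) := by
    rw [hK2, hPhi 0]
    simp only [H16.ci_add_left, mul_add, Finset.sum_add_distrib]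
    rw [hsingle _ signed_one, hsingle _ hV, hsingle _ (hY 0), hYz, hbz, hX,
      show Y 0 1 = ((-(18 * j + 2) : ℤ) : ℂ) by rw [hY_val, Phi_one, hX]; push_cast; ring]
    push_cast
    simp only [div_neg]
    ring
  have h1ne : ((18 * j + 1 : ℤ) : ℂ) ≠ 0 := by exact_mod_cast (show 18 * j + 1 ≠ 0 by omega)
  have h2ne : ((18 * j + 2 : ℤ) : ℂ) ≠ 0 := by exact_mod_cast (show 18 * j + 2 ≠ 0 by omega)
  rw [hK, show Nat.card (Cz M) = 9 * M.w ^ 2 from M.cardC] at heq
  have hfin : (((Nat.card L : ℤ) * (324 * j ^ 2) : ℤ) : ℂ) =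
      ((9 * (M.w : ℤ) ^ 2 * (162 * (M.w : ℤ) ^ 2) * ((18 * j + 1) * (18 * j + 2)) : ℤ) : ℂ) := by
    push_cast at heq h1ne h2ne ⊢
    have i1 := mul_inv_cancel₀ h1ne
    have i2 := mul_inv_cancel₀ h2ne
    linear_combination ((18 * (j : ℂ) + 1) * (18 * (j : ℂ) + 2)) * heq -
      (Nat.card L : ℂ) * (18 * (j : ℂ) + 2) * i1 + 4 * (Nat.card L : ℂ) * (18 * (j : ℂ) + 1) * i2
  have hfin : (Nat.card L : ℤ) * (324 * j ^ 2) =
      9 * (M.w : ℤ) ^ 2 * (162 * (M.w : ℤ) ^ 2) * ((18 * j + 1) * (18 * j + 2)) := by exact_mod_cast hfin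
  refine ⟨j, fun h => ?_, ?_⟩
  · rw [h] at hfin
    rcases M.hw with e | e <;> rw [e] at hfin <;> norm_num at hfin
  · linarith

end H61.TwoAn

namespace H61.TwoAn

universe u

/-- **The order formula.** -/
theorem order : H33.TwoAn.OrderStmt.{u} := by
  intro L _ _ K
  haveI : Fintype L := Fintype.ofFinite L
  exact order_aux K

end H61.TwoAn
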