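import Cfsg.Agent.H33.TwoAn.Defs
import Cfsg.Agent.H35.GDih

/-!
The structure of `C(z)` in the configuration `H33.TwoAn.LCfg`: coordinates in the generalised
dihedral group of `ZMod 3 × ZMod 3`, and the trivial intersection property of the special elements.
-/

set_option autoImplicit false
set_option linter.unusedSectionVars false
set_option linter.style.haveILetI false

open H35.DA

namespace H61.TwoAn

universe u

/-- Coordinates of the elementary abelian group of order nine. -/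
abbrev P9 : Type := ZMod 3 × ZMod 3

variable {L : Type u} [Group L] [Finite L] (M : H33.TwoAn.LCfg L)

/-- The centraliser of the involution. -/
abbrev Cz : Subgroup L := Subgroup.centralizer ({M.z} : Set L)

theorem mem_Cz {g : L} : g ∈ Cz M ↔ Commute g M.z := Subgroup.mem_centralizer_singleton_iff

theorem exists_second : ∃ a ∈ M.A, a ∉ Subgroup.zpowers M.a₀ := by
  by_contra h
  push Not at h
  have h1 := Subgroup.card_le_of_le (H := M.A) (K := Subgroup.zpowers M.a₀) h
  rw [M.cardA, Nat.card_zpowers] at h1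
  have h2 : orderOf M.a₀ ≤ 3 :=
    Nat.le_of_dvd (by norm_num) (orderOf_dvd_of_pow_eq_one (M.cube _ M.ha₀.1))
  omega

/-- A second generator. -/
noncomputable def a₁ : L := (exists_second M).choose

theorem a₁_mem : a₁ M ∈ M.A := (exists_second M).choose_spec.1

theorem a₁_notMem : a₁ M ∉ Subgroup.zpowers M.a₀ := (exists_second M).choose_spec.2

theorem A_comm {a b : L} (ha : a ∈ M.A) (hb : b ∈ M.A) : a * b = b * a := by
  haveI : Fact (Nat.Prime 3) := ⟨Nat.prime_three⟩
  have h : Nat.card M.A = 3 ^ 2 := by rw [M.cardA]; norm_num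
  exact congrArg Subtype.val
    ((IsPGroup.isMulCommutative_of_card_eq_prime_sq h).is_comm.comm (⟨a, ha⟩ : M.A) ⟨b, hb⟩)

/-- The parametrisation of `A`. -/
noncomputable def el (p : P9) : L := M.a₀ ^ p.1.val * a₁ M ^ p.2.val

theorem el_mem (p : P9) : el M p ∈ M.A := mul_mem (pow_mem M.ha₀.1 _) (pow_mem (a₁_mem M) _)

theorem pow_val_add {a : L} (ha : a ^ 3 = 1) (x y : ZMod 3) :
    a ^ (x + y).val = a ^ x.val * a ^ y.val := by
  rw [← pow_add, ZMod.val_add, ← pow_eq_pow_mod _ ha]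

theorem el_add (p q : P9) : el M (p + q) = el M p * el M q := by
  simp only [el, Prod.fst_add, Prod.snd_add]
  rw [pow_val_add (M.cube _ M.ha₀.1), pow_val_add (M.cube _ (a₁_mem M)), mul_assoc, mul_assoc]
  congr 1
  rw [← mul_assoc, ← mul_assoc,
    A_comm M (pow_mem (a₁_mem M) p.2.val) (pow_mem M.ha₀.1 q.1.val)]

theorem el_zero : el M 0 = 1 := by simp [el]

theorem el_neg (p : P9) : el M (-p) = (el M p)⁻¹ :=
  eq_inv_of_mul_eq_one_left (by rw [← el_add, neg_add_cancel, el_zero])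

theorem el_injective : Function.Injective (el M) := by
  intro p q hpq
  have h : el M (p - q) = 1 := by rw [sub_eq_add_neg, el_add, el_neg, hpq, mul_inv_cancel]
  refine sub_eq_zero.mp ?_
  set r := p - q
  have h2 : a₁ M ^ r.2.val ∈ Subgroup.zpowers M.a₀ := by
    have e : a₁ M ^ r.2.val = (M.a₀ ^ r.1.val)⁻¹ := eq_inv_of_mul_eq_one_right h
    rw [e]
    exact inv_mem (pow_mem (Subgroup.mem_zpowers _) _)
  have hy : r.2 = 0 := by
    have h3 := r.2.val_lt
    rcases (show r.2.val = 0 ∨ r.2.val = 1 ∨ r.2.val = 2 by omega) with e | e | e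
    · exact (ZMod.val_eq_zero _).mp e
    · rw [e, pow_one] at h2; exact absurd h2 (a₁_notMem M)
    · rw [e] at h2
      refine absurd ?_ (a₁_notMem M)
      have h4 : a₁ M = (a₁ M ^ 2) ^ 2 := by
        rw [← pow_mul, show 2 * 2 = 3 + 1 by norm_num, pow_succ, M.cube _ (a₁_mem M), one_mul]
      rw [h4]
      exact pow_mem h2 2
  have h5 : M.a₀ ^ r.1.val = 1 := by simpa [el, hy] using h
  have hx : r.1 = 0 := by
    have h6 : orderOf M.a₀ = 3 := orderOf_eq_prime (hp := ⟨Nat.prime_three⟩) (M.cube _ M.ha₀.1) M.ha₀.2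
    have h7 := Nat.eq_zero_of_dvd_of_lt (orderOf_dvd_of_pow_eq_one h5) (by rw [h6]; exact r.1.val_lt)
    exact (ZMod.val_eq_zero _).mp h7
  exact Prod.ext hx hy

theorem exists_el {a : L} (ha : a ∈ M.A) : ∃ p, el M p = a := by
  let f : P9 → M.A := fun p => ⟨el M p, el_mem M p⟩
  have hf : Function.Bijective f := (Nat.bijective_iff_injective_and_card f).mpr
    ⟨fun p q h => el_injective M (congrArg Subtype.val h), by rw [M.cardA]; simp⟩
  obtain ⟨p, hp⟩ := hf.2 ⟨a, ha⟩
  exact ⟨p, congrArg Subtype.val hp⟩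

theorem el_eq_one {p : P9} : el M p = 1 ↔ p = 0 := by
  rw [← el_zero M]; exact (el_injective M).eq_iff

theorem el_zpowers {p : P9} (hp : p.2 ≠ 0) : el M p ∉ Subgroup.zpowers M.a₀ := by
  intro h
  have h1 : M.a₀ ^ p.1.val * a₁ M ^ p.2.val ∈ Subgroup.zpowers M.a₀ := h
  rw [Subgroup.mul_mem_cancel_left _ (pow_mem (Subgroup.mem_zpowers _) _)] at h1
  have h3 := p.2.val_lt
  rcases (show p.2.val = 0 ∨ p.2.val = 1 ∨ p.2.val = 2 by omega) with e | e | e
  · exact hp ((ZMod.val_eq_zero _).mp e)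
  · rw [e, pow_one] at h1; exact a₁_notMem M h1
  · rw [e] at h1
    refine a₁_notMem M ?_
    have h4 : a₁ M = (a₁ M ^ 2) ^ 2 := by
      rw [← pow_mul, show 2 * 2 = 3 + 1 by norm_num, pow_succ, M.cube _ (a₁_mem M), one_mul]
    rw [h4]
    exact pow_mem h1 2

/-- `K` is a group of order dividing eight. -/
theorem K_pow {k : L} (hk : k ∈ M.K) : k ^ 8 = 1 := by
  have h : orderOf k ∣ 8 := by
    refine (show orderOf k ∣ Nat.card M.K from ?_).trans ?_
    · exact (Subgroup.orderOf_coe (⟨k, hk⟩ : M.K)).symm ▸ orderOf_dvd_natCard _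
    · have := M.cardK
      rcases M.hw with h | h <;> rw [h] at this <;> norm_num at this
      · rw [show Nat.card M.K = 2 by omega]; norm_num
      · rw [show Nat.card M.K = 8 by omega]
  exact orderOf_dvd_iff_pow_eq_one.mp h

theorem A_inter_K {p : P9} (h : el M p ∈ M.K) : p = 0 := by
  refine (el_eq_one M).mp ?_
  have h8 := K_pow M h
  have h3 := M.cube _ (el_mem M p)
  calc el M p = (el M p ^ 3) ^ 3 * ((el M p) ^ 8)⁻¹ := by
        rw [← pow_mul, show 3 * 3 = 8 + 1 by norm_num, pow_succ' (el M p) 8, mul_inv_cancel_right]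
    _ = 1 := by rw [h3, h8]; simp

theorem t_sq : M.t * M.t = 1 := by rw [← pow_two, ← M.ht, pow_orderOf_eq_one]

theorem t_el (p : P9) : M.t * el M p = el M (-p) * M.t := by
  rw [el_neg]
  have h := M.t_inv _ (el_mem M p)
  rw [← h, inv_mul_cancel_right]

theorem el_t (p : P9) : el M p * M.t = M.t * el M (-p) := by
  rw [t_el, neg_neg]

theorem conj_K {c k : L} (hc : Commute c M.z) (hk : k ∈ M.K) : ∃ k' ∈ M.K, k * c = c * k' :=
  ⟨c⁻¹ * k * c⁻¹⁻¹, M.Knormal _ hc.inv_left _ hk, by group⟩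

theorem el_comm_z (p : P9) : Commute (el M p) M.z := M.Az _ (el_mem M p)

/-- The head of an element of `C(z)` with given coordinates. -/
noncomputable def hd : GDih P9 → L
  | .r p => el M p
  | .sr p => M.t * el M p

theorem hd_comm : ∀ g : GDih P9, Commute (hd M g) M.z
  | .r p => el_comm_z M p
  | .sr p => M.tz.mul_left (el_comm_z M p)

theorem hd_mul : ∀ g h : GDih P9, hd M g * hd M h = hd M (g * h)
  | .r p, .r q => by simp [hd, el_add]
  | .r p, .sr q => by
    show el M p * (M.t * el M q) = M.t * el M (q - p)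
    rw [← mul_assoc, el_t, mul_assoc, ← el_add, neg_add_eq_sub]
  | .sr p, .r q => by simp [hd, el_add, mul_assoc]
  | .sr p, .sr q => by
    show M.t * el M p * (M.t * el M q) = el M (q - p)
    rw [mul_assoc, ← mul_assoc (el M p), el_t, mul_assoc, ← el_add, ← mul_assoc, t_sq, one_mul,
      neg_add_eq_sub]

/-- The parametrisation of `C(z)`. -/
noncomputable def par (x : GDih P9 × M.K) : Cz M :=
  ⟨hd M x.1 * x.2, (mem_Cz M).mpr ((hd_comm M x.1).mul_left (M.Kle _ x.2.2))⟩

theorem par_injective : Function.Injective (par M) := by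
  rintro ⟨g, k⟩ ⟨g', k'⟩ h
  have h' : hd M g * k = hd M g' * k' := congrArg Subtype.val h
  have h1 : hd M (g'⁻¹ * g) * k = k' := by
    rw [← hd_mul, mul_assoc, h', ← mul_assoc, hd_mul, inv_mul_cancel]
    show el M 0 * (k' : L) = k'
    rw [el_zero, one_mul]
  have h2 : hd M (g'⁻¹ * g) ∈ M.K := by
    rw [eq_mul_inv_of_mul_eq h1]
    exact mul_mem k'.2 (inv_mem k.2)
  have hg : g = g' := by
    refine (inv_mul_eq_one.mp ?_).symm
    rcases hcase : g'⁻¹ * g with p | p
    · rw [hcase] at h2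
      rw [A_inter_K M h2]
      rfl
    · exfalso
      rw [hcase] at h2
      have e : M.t * el M p ∈ M.K := h2
      obtain ⟨k₁, hk₁, he⟩ := conj_K M (el_comm_z M (-p)) e
      refine M.ht_notMem _ (el_mem M (-p)) _ hk₁ ?_
      rw [← he, mul_assoc, ← el_add, add_neg_cancel, el_zero, mul_one]
  subst hg
  exact Prod.ext rfl (Subtype.ext (mul_left_cancel h'))

theorem par_bijective : Function.Bijective (par M) := by
  refine (Nat.bijective_iff_injective_and_card _).mpr ⟨par_injective M, ?_⟩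
  rw [Nat.card_prod, GDih.nat_card, show Nat.card (Cz M) = 9 * M.w ^ 2 from M.cardC,
    Fintype.card_prod, ZMod.card]
  have := M.cardK
  linarith

/-- The coordinates of an element of `C(z)`. -/
noncomputable def parEquiv : GDih P9 × M.K ≃ Cz M := Equiv.ofBijective _ (par_bijective M)

/-- The homomorphism onto the generalised dihedral group. -/
noncomputable def coord : Cz M →* GDih P9 :=
  MonoidHom.mk' (fun c => ((parEquiv M).symm c).1) <| by
    intro c d
    obtain ⟨⟨g, k⟩, rfl⟩ := (parEquiv M).surjective c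
    obtain ⟨⟨h, l⟩, rfl⟩ := (parEquiv M).surjective d
    obtain ⟨k', hk', e⟩ := conj_K M (hd_comm M h) k.2
    have hm : parEquiv M (g, k) * parEquiv M (h, l) =
        parEquiv M (g * h, ⟨k' * l, mul_mem hk' l.2⟩) := by
      refine Subtype.ext ?_
      show hd M g * k * (hd M h * l) = hd M (g * h) * (k' * l)
      rw [← hd_mul, mul_assoc, ← mul_assoc (k : L), e]
      simp only [mul_assoc]
    simp [hm]

theorem coord_par (g : GDih P9) (k : M.K) : coord M (par M (g, k)) = g := by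
  show ((parEquiv M).symm (parEquiv M (g, k))).1 = g
  rw [Equiv.symm_apply_apply]

theorem exists_par (c : Cz M) : ∃ k : M.K, c = par M (coord M c, k) :=
  ⟨((parEquiv M).symm c).2, ((parEquiv M).apply_symm_apply c).symm⟩

theorem coord_eq {c : Cz M} {g : GDih P9} {k : L} (hk : k ∈ M.K) (h : (c : L) = hd M g * k) :
    coord M c = g := by
  rw [show c = par M (g, ⟨k, hk⟩) from Subtype.ext h, coord_par]

theorem coord_mem_K {c : Cz M} (hc : (c : L) ∈ M.K) : coord M c = 1 :=
  coord_eq M hc (g := .r 0) (by show (c : L) = el M 0 * (c : L); rw [el_zero, one_mul])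

/-- The special elements: those mapping to a non-trivial rotation. -/
def InD (c : Cz M) : Prop := ∃ p : P9, p ≠ 0 ∧ coord M c = .r p

theorem rot_pow (p : P9) : ∀ n : ℕ, (GDih.r p) ^ n = GDih.r (n • p)
  | 0 => by simp [GDih.one_def]
  | n + 1 => by rw [pow_succ, rot_pow p n, GDih.r_mul_r, succ_nsmul]

theorem InD.pow16 {c : Cz M} (h : InD M c) : (c : L) ^ 16 ≠ 1 ∧ ((c : L) ^ 16) ^ 3 = 1 := by
  obtain ⟨p, hp, hc⟩ := h
  constructor
  · intro h1
    have h2 : c ^ 16 = 1 := Subtype.ext (by rw [SubmonoidClass.coe_pow]; exact h1)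
    have h3 := congrArg (coord M) h2
    rw [map_pow, hc, rot_pow, map_one, GDih.one_def] at h3
    have h4 := GDih.r.inj h3
    clear hc h3
    revert h4 hp
    revert p
    decide
  · obtain ⟨k, hk⟩ := exists_par M (c ^ 3)
    have h3 : coord M (c ^ 3) = 1 := by
      rw [map_pow, hc, rot_pow, GDih.one_def]
      congr 1
      clear hc hp
      revert p
      decide
    rw [h3] at hk
    have e : (c : L) ^ 3 = k := by
      have := congrArg Subtype.val hk
      rw [SubmonoidClass.coe_pow] at this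
      rw [this]
      show el M 0 * (k : L) = k
      rw [el_zero, one_mul]
    rw [← pow_mul, show 16 * 3 = 3 * 16 by norm_num, pow_mul, e, show 16 = 8 * 2 by norm_num,
      pow_mul, K_pow M k.2, one_pow]

theorem exists_conj_A {u : Cz M} (h : (u : L) ^ 3 = 1) :
    ∃ c : L, Commute c M.z ∧ c⁻¹ * u * c ∈ M.A := by
  haveI : Fact (Nat.Prime 3) := ⟨Nat.prime_three⟩
  have hle : M.A ≤ Cz M := fun a ha => (mem_Cz M).mpr (M.Az a ha)
  have hcard : Nat.card (M.A.subgroupOf (Cz M)) = 3 ^ (Nat.card (Cz M)).factorization 3 := by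
    rw [Nat.card_congr (Subgroup.subgroupOfEquivOfLe hle).toEquiv, M.cardA,
      show Nat.card (Cz M) = 9 * M.w ^ 2 from M.cardC]
    rcases M.hw with e | e <;> rw [e]
    · rw [show 9 * 2 ^ 2 = 3 ^ 2 * 4 by norm_num, Nat.factorization_mul (by norm_num) (by norm_num),
        Finsupp.add_apply, Nat.Prime.factorization_pow Nat.prime_three, Finsupp.single_eq_same,
        Nat.factorization_eq_zero_of_not_dvd (by norm_num : ¬ 3 ∣ 4)]; norm_num
    · rw [show 9 * 4 ^ 2 = 3 ^ 2 * 16 by norm_num, Nat.factorization_mul (by norm_num) (by norm_num),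
        Finsupp.add_apply, Nat.Prime.factorization_pow Nat.prime_three, Finsupp.single_eq_same,
        Nat.factorization_eq_zero_of_not_dvd (by norm_num : ¬ 3 ∣ 16)]; norm_num
  let S : Sylow 3 (Cz M) := Sylow.ofCard (M.A.subgroupOf (Cz M)) hcard
  have hu : IsPGroup 3 (Subgroup.zpowers u) := by
    rintro ⟨y, hy⟩
    obtain ⟨i, rfl⟩ := Subgroup.mem_zpowers_iff.mp hy
    refine ⟨1, Subtype.ext ?_⟩
    show (u ^ i) ^ (3 ^ 1) = 1
    rw [pow_one, ← zpow_natCast, ← zpow_mul, mul_comm, zpow_mul, zpow_natCast,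
      show u ^ 3 = 1 from Subtype.ext (by rw [SubmonoidClass.coe_pow]; exact h), one_zpow]
  obtain ⟨T, hT⟩ := hu.exists_le_sylow
  obtain ⟨g, hg⟩ := MulAction.exists_smul_eq (Cz M) S T
  have hmem : u ∈ ((g • S : Sylow 3 (Cz M)) : Subgroup (Cz M)) := by
    rw [hg]; exact hT (Subgroup.mem_zpowers u)
  rw [Sylow.coe_subgroup_smul, Subgroup.mem_pointwise_smul_iff_inv_smul_mem] at hmem
  refine ⟨g, (mem_Cz M).mp g.2, ?_⟩
  simpa [S, Subgroup.mem_subgroupOf, MulAut.smul_def, mul_assoc] using hmem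

/-- Trivial intersection: a special element only meets `C(z)` through `C(z)`. -/
theorem InD.stay {c : Cz M} (h : InD M c) {g : L} (hg : g * c * g⁻¹ ∈ Cz M) : g ∈ Cz M := by
  obtain ⟨h1, h3⟩ := h.pow16
  obtain ⟨c₀, hc₀, hA₀⟩ := exists_conj_A M (u := c ^ 16) (by rw [SubmonoidClass.coe_pow]; exact h3)
  have h3' : (g * (c : L) * g⁻¹) ^ 16 = g * (c : L) ^ 16 * g⁻¹ := conj_pow
  obtain ⟨c₁, hc₁, hA₁⟩ := exists_conj_A M (u := (⟨_, hg⟩ : Cz M) ^ 16) (by
    rw [SubmonoidClass.coe_pow]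
    show ((g * (c : L) * g⁻¹) ^ 16) ^ 3 = 1
    rw [h3', conj_pow, h3, mul_one, mul_inv_cancel])
  rw [SubmonoidClass.coe_pow] at hA₀ hA₁
  set a := c₀⁻¹ * (c : L) ^ 16 * c₀ with ha
  have hne : a ≠ 1 := by
    intro e
    refine h1 ?_
    calc (c : L) ^ 16 = c₀ * a * c₀⁻¹ := by rw [ha]; group
      _ = 1 := by rw [e]; group
  have hconj : (c₁⁻¹ * g * c₀) * a * (c₁⁻¹ * g * c₀)⁻¹ ∈ M.A := by
    have e : (c₁⁻¹ * g * c₀) * a * (c₁⁻¹ * g * c₀)⁻¹ = c₁⁻¹ * (g * (c : L) * g⁻¹) ^ 16 * c₁ := by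
      rw [h3', ha]; group
    rw [e]; exact hA₁
  have hcz := M.control a hA₀ hne _ hconj
  rw [mem_Cz]
  have := (hc₁.mul_left hcz).mul_left hc₀.inv_left
  rwa [show c₁ * (c₁⁻¹ * g * c₀) * c₀⁻¹ = g by group] at this

end H61.TwoAn
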