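import Cfsg.Agent.H61.TwoAn.Chars
import Cfsg.Agent.H12.Integral

/-!
Integrality and congruences for character values at real elements of order dividing six, and column
bounds for a family of orthogonal signed irreducible characters.
-/

set_option autoImplicit false
set_option linter.unusedSectionVars false
set_option linter.style.haveILetI false

open Cfsg
open H13.GL23 (Signed1)
open scoped ComplexConjugate

namespace H61.TwoAn

universe u

theorem sixth_cases {μ : ℂ} (h : μ ^ 6 = 1) :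
    μ = 1 ∨ μ = -1 ∨ μ ^ 2 + μ + 1 = 0 ∨ μ ^ 2 - μ + 1 = 0 := by
  have e : (μ - 1) * (μ + 1) * (μ ^ 2 + μ + 1) * (μ ^ 2 - μ + 1) = 0 := by linear_combination h
  rcases mul_eq_zero.mp e with e | e
  · rcases mul_eq_zero.mp e with e | e
    · rcases mul_eq_zero.mp e with e | e
      · exact Or.inl (sub_eq_zero.mp e)
      · exact Or.inr (Or.inl (eq_neg_of_add_eq_zero_left e))
    · exact Or.inr (Or.inr (Or.inl e))
  · exact Or.inr (Or.inr (Or.inr e))

theorem sum_int {ι : Type*} [Fintype ι] {F : ι → ℂ} (h : ∀ i, ∃ n : ℤ, F i = n) :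
    ∃ n : ℤ, ∑ i, F i = n := by
  choose n hn using h
  exact ⟨∑ i, n i, by push_cast; exact Finset.sum_congr rfl fun i _ => hn i⟩

theorem int_of_two_mul {x : ℂ} {n : ℤ} (hx : IsIntegral ℤ x) (h : 2 * x = n) :
    ∃ m : ℤ, x = m := by
  obtain ⟨m, hm⟩ := H12.exists_int_of_isIntegral_rat (q := (n : ℚ) / 2) (by
    have e : (((n : ℚ) / 2 : ℚ) : ℂ) = x := by push_cast; rw [← h]; ring
    rw [e]; exact hx)
  refine ⟨m, ?_⟩
  have := congrArg (fun r : ℚ => (r : ℂ)) hm
  push_cast at this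
  rw [this, ← h]
  ring

variable {L : Type u} [Group L] [Fintype L]

/-- Values of a character at a real element of order dividing six. -/
theorem sixth {χ : L → ℂ} (hχ : IsCharacter L χ) {g : L} (hg : g ^ 6 = 1) (hr : IsConj g g⁻¹) :
    ∃ a b c : ℤ, χ g = a ∧ χ (g ^ 3) = b ∧ χ (g ^ 4) = c ∧ 3 ∣ a - b ∧ 2 ∣ a - c := by
  classical
  have hcf := H12.IsCharacter.isClassFunction hχ
  obtain ⟨x, hx⟩ := isConj_iff.mp hr
  obtain ⟨d, ρ, rfl⟩ := hχ
  obtain ⟨μ, h1, hk, -⟩ := H12.exists_char_eigenvalues ρ g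
  have h6 : ∀ i, μ i ^ 6 = 1 := fun i => by
    obtain ⟨m, hm⟩ := orderOf_dvd_of_pow_eq_one hg
    rw [hm, pow_mul, h1, one_pow]
  have hint : ∀ i, IsIntegral ℤ (μ i) := fun i =>
    IsIntegral.of_pow (by norm_num : 0 < 6) (by rw [h6]; exact isIntegral_one)
  have e1 : ρ.character g = ∑ i, μ i := by simpa using hk 1
  have hinv : ∀ k : ℕ, ρ.character (g ^ (5 * k)) = ρ.character (g ^ k) := fun k => by
    have e : g ^ (5 * k) = x * g ^ k * x⁻¹ := by
      rw [← conj_pow, hx, pow_mul]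
      congr 1
      refine eq_inv_of_mul_eq_one_left ?_
      rw [← pow_succ, hg]
    rw [e, hcf]
  have hA : ∃ n : ℤ, ∑ i, (μ i + μ i ^ 5) = n := sum_int fun i => by
    rcases sixth_cases (h6 i) with e | e | e | e
    · exact ⟨2, by rw [e]; norm_num⟩
    · exact ⟨-2, by rw [e]; norm_num⟩
    · exact ⟨-1, by push_cast; linear_combination (μ i ^ 3 - μ i ^ 2 + 1) * e⟩
    · exact ⟨1, by push_cast; linear_combination (μ i ^ 3 + μ i ^ 2 - 1) * e⟩
  have hB : ∃ n : ℤ, ∑ i, μ i ^ 3 = n := sum_int fun i => by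
    rcases sixth_cases (h6 i) with e | e | e | e
    · exact ⟨1, by rw [e]; norm_num⟩
    · exact ⟨-1, by rw [e]; norm_num⟩
    · exact ⟨1, by push_cast; linear_combination (μ i - 1) * e⟩
    · exact ⟨-1, by push_cast; linear_combination (μ i + 1) * e⟩
  have hC : ∃ n : ℤ, ∑ i, (μ i ^ 4 + μ i ^ 2) = n := sum_int fun i => by
    rcases sixth_cases (h6 i) with e | e | e | e
    · exact ⟨2, by rw [e]; norm_num⟩
    · exact ⟨2, by rw [e]; norm_num⟩
    · exact ⟨-1, by push_cast; linear_combination (μ i ^ 2 - μ i + 1) * e⟩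
    · exact ⟨-1, by push_cast; linear_combination (μ i ^ 2 + μ i + 1) * e⟩
  have hD : ∃ n : ℤ, (∑ i, (μ i + μ i ^ 5 + μ i ^ 3) / 3 : ℂ) = (n : ℂ) := sum_int fun i => by
    rcases sixth_cases (h6 i) with e | e | e | e
    · exact ⟨1, by rw [e]; norm_num⟩
    · exact ⟨-1, by rw [e]; norm_num⟩
    · exact ⟨0, by push_cast; linear_combination ((μ i ^ 3 - μ i ^ 2 + μ i) / 3) * e⟩
    · exact ⟨0, by push_cast; linear_combination ((μ i ^ 3 + μ i ^ 2 + μ i) / 3) * e⟩
  obtain ⟨nA, hA⟩ := hA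
  obtain ⟨b, hB⟩ := hB
  obtain ⟨nC, hC⟩ := hC
  obtain ⟨nD, hD⟩ := hD
  rw [Finset.sum_add_distrib, ← e1, ← hk 5, show (5 : ℕ) = 5 * 1 from rfl, hinv, pow_one] at hA
  rw [← hk 3] at hB
  rw [Finset.sum_add_distrib, ← hk 4, ← hk 2] at hC
  have h24 : ρ.character (g ^ 2) = ρ.character (g ^ 4) := by
    rw [← hinv 2]
    congr 1
    rw [show 5 * 2 = 6 + 4 by norm_num, pow_add, hg, one_mul]
  rw [h24] at hC
  obtain ⟨a, ha⟩ := int_of_two_mul (H12.isIntegral_character ρ g) (n := nA) (by linear_combination hA)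
  obtain ⟨c, hc⟩ := int_of_two_mul (H12.isIntegral_character ρ (g ^ 4)) (n := nC) (by linear_combination hC)
  refine ⟨a, b, c, ha, hB, hc, ⟨a - nD, ?_⟩, ?_⟩
  · have h' : ((2 * a + b : ℤ) : ℂ) = ((3 * nD : ℤ) : ℂ) := by
      push_cast
      rw [← hD, ← Finset.sum_div, Finset.sum_add_distrib, Finset.sum_add_distrib, ← e1, ← hk 5,
        show (5 : ℕ) = 5 * 1 from rfl, hinv, pow_one, ← hk 3, ha, hB]
      ring
    have : 2 * a + b = 3 * nD := by exact_mod_cast h'
    omega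
  · obtain ⟨m, hm⟩ := int_of_two_mul (x := ∑ i, (μ i + μ i ^ 4) / 2) (n := a + c) (by
        refine IsIntegral.sum _ fun i _ => ?_
        rcases sixth_cases (h6 i) with e | e | e | e
        · rw [e]; norm_num; exact isIntegral_one
        · rw [e]; norm_num; exact isIntegral_zero
        · rw [show (μ i + μ i ^ 4) / 2 = μ i by linear_combination ((μ i ^ 2 - μ i) / 2) * e]
          exact hint i
        · rw [show (μ i + μ i ^ 4) / 2 = 0 by linear_combination ((μ i ^ 2 + μ i) / 2) * e]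
          exact isIntegral_zero) (by
        push_cast
        rw [← Finset.sum_div, Finset.sum_add_distrib, ← e1, ← hk 4, ha, hc]
        ring)
    rw [← Finset.sum_div, Finset.sum_add_distrib, ← e1, ← hk 4, ha, hc] at hm
    have h' : ((a + c : ℤ) : ℂ) = ((2 * m : ℤ) : ℂ) := by push_cast; linear_combination 2 * hm
    have : a + c = 2 * m := by exact_mod_cast h'
    exact ⟨m - c, by omega⟩

theorem signed_cases' {S : L → ℂ} (hS : Signed1 S) :
    ∃ (χ : IrrCharacter L) (s : ℤ), (s = 1 ∨ s = -1) ∧ S = (s : ℂ) • (χ : L → ℂ) := by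
  rcases H16.norm_one hS.1 hS.2 with h | h
  · exact ⟨⟨S, h⟩, 1, Or.inl rfl, by simp⟩
  · exact ⟨⟨-S, h⟩, -1, Or.inr rfl, by simp⟩

/-- The same for signed irreducible characters. -/
theorem sixth_signed {S : L → ℂ} (hS : Signed1 S) {g : L} (hg : g ^ 6 = 1) (hr : IsConj g g⁻¹) :
    ∃ a b c : ℤ, S g = a ∧ S (g ^ 3) = b ∧ S (g ^ 4) = c ∧ 3 ∣ a - b ∧ 2 ∣ a - c := by
  obtain ⟨χ, s, -, rfl⟩ := signed_cases' hS
  obtain ⟨a, b, c, ha, hb, hc, h3, h2⟩ := sixth (H12.isCharacter_irr χ) hg hr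
  refine ⟨s * a, s * b, s * c, by simp [ha], by simp [hb], by simp [hc], ?_, ?_⟩
  · rw [← mul_sub]; exact h3.mul_left s
  · rw [← mul_sub]; exact h2.mul_left s

theorem value_real (χ : IrrCharacter L) {g : L} (hr : IsConj g g⁻¹) :
    ((((χ : L → ℂ) g).re : ℝ) : ℂ) = (χ : L → ℂ) g := by
  refine Complex.conj_eq_iff_re.mp ?_
  rw [← H12.irr_inv χ g]
  obtain ⟨x, hx⟩ := isConj_iff.mp hr
  rw [← hx]
  exact H12.irr_isClassFunction χ g x

/-- Column bounds for orthogonal signed irreducible characters. -/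
theorem col_bound {S : Fin 6 → L → ℂ} (hS : ∀ j, Signed1 (S j))
    (horth : ∀ i j, i ≠ j → classInner (S i) (S j) = 0) {g h : L} (hg : IsConj g g⁻¹)
    (hh : IsConj h h⁻¹) {s t : Fin 6 → ℤ} (hs : ∀ j, S j g = s j) (ht : ∀ j, S j h = t j) :
    ∑ j, s j ^ 2 ≤ (Nat.card (Subgroup.centralizer ({g} : Set L)) : ℤ) ∧
      (¬ IsConj g h → (∑ j, s j * t j) ^ 2 ≤
        ((Nat.card (Subgroup.centralizer ({g} : Set L)) : ℤ) - ∑ j, s j ^ 2) *
          ((Nat.card (Subgroup.centralizer ({h} : Set L)) : ℤ) - ∑ j, t j ^ 2)) := by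
  classical
  choose c σ hσ hc using fun j => signed_cases' (hS j)
  have hσ2 : ∀ j, (σ j : ℂ) * σ j = 1 := fun j => by rcases hσ j with e | e <;> simp [e]
  have hinj : Function.Injective c := by
    intro i j hij
    by_contra hne
    have h0 := horth i j hne
    rw [hc i, hc j, H16.ci_smul_left, H16.ci_smul_right, hij, H16.ci_irr_self (c j).2] at h0
    rcases hσ i with e1 | e1 <;> rcases hσ j with e2 | e2 <;> rw [e1, e2] at h0 <;> norm_num at h0
  set u : IrrCharacter L → ℝ := fun χ => ((χ : L → ℂ) g).re with hu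
  set v : IrrCharacter L → ℝ := fun χ => ((χ : L → ℂ) h).re with hv
  have hcol : ∀ x y : L, IsConj x x⁻¹ → IsConj y y⁻¹ →
      ((∑ χ : IrrCharacter L, ((χ : L → ℂ) x).re * ((χ : L → ℂ) y).re : ℝ) : ℂ) =
        if IsConj x y then (Nat.card (Subgroup.centralizer ({x} : Set L)) : ℂ) else 0 := by
    intro x y hx hy
    rw [← H12.column_orthogonality x y]
    push_cast
    refine Finset.sum_congr rfl fun χ _ => ?_
    rw [value_real χ hx, value_real χ hy]
    congr 1
    rw [← H12.irr_inv χ y]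
    obtain ⟨z, hz⟩ := isConj_iff.mp hy
    rw [← hz]
    exact (H12.irr_isClassFunction χ y z).symm
  have hgg : ∑ χ, u χ * u χ = (Nat.card (Subgroup.centralizer ({g} : Set L)) : ℝ) := by
    have e := hcol g g hg hg
    rw [if_pos (IsConj.refl g)] at e
    exact_mod_cast e
  have hhh : ∑ χ, v χ * v χ = (Nat.card (Subgroup.centralizer ({h} : Set L)) : ℝ) := by
    have e := hcol h h hh hh
    rw [if_pos (IsConj.refl h)] at e
    exact_mod_cast e
  set I := Finset.univ.image c with hI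
  have hcj : ∀ (x : L) (w : Fin 6 → ℤ), (∀ j, S j x = w j) → ∀ j, ((c j : L → ℂ) x).re = σ j * w j := by
    intro x w hw j
    have e : (c j : L → ℂ) x = ((σ j * w j : ℤ) : ℂ) := by
      push_cast
      rw [← hw j, hc j, Pi.smul_apply, smul_eq_mul, ← mul_assoc, hσ2, one_mul]
    rw [e]; simp
  have hsum : ∀ (x y : L) (w w' : Fin 6 → ℤ), (∀ j, S j x = w j) → (∀ j, S j y = w' j) →
      ∑ χ ∈ I, ((χ : L → ℂ) x).re * ((χ : L → ℂ) y).re = ((∑ j, w j * w' j : ℤ) : ℝ) := by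
    intro x y w w' hw hw'
    rw [hI, Finset.sum_image fun a _ b _ e => hinj e]
    push_cast
    refine Finset.sum_congr rfl fun j _ => ?_
    rw [hcj x w hw, hcj y w' hw']
    rcases hσ j with e | e <;> simp [e]
  have hss : ∑ χ ∈ I, u χ * u χ = ((∑ j, s j ^ 2 : ℤ) : ℝ) := by
    simp only [pow_two]; exact hsum g g s s hs hs
  have htt : ∑ χ ∈ I, v χ * v χ = ((∑ j, t j ^ 2 : ℤ) : ℝ) := by
    simp only [pow_two]; exact hsum h h t t ht ht
  have hru : ∑ χ ∈ Finset.univ \ I, u χ * u χ =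
      (((Nat.card (Subgroup.centralizer ({g} : Set L)) : ℤ) - ∑ j, s j ^ 2 : ℤ) : ℝ) := by
    rw [Finset.sum_sdiff_eq_sub (Finset.subset_univ I), hgg, hss]; push_cast; rfl
  have hrv : ∑ χ ∈ Finset.univ \ I, v χ * v χ =
      (((Nat.card (Subgroup.centralizer ({h} : Set L)) : ℤ) - ∑ j, t j ^ 2 : ℤ) : ℝ) := by
    rw [Finset.sum_sdiff_eq_sub (Finset.subset_univ I), hhh, htt]; push_cast; rfl
  constructor
  · have h0 : (0 : ℝ) ≤ (((Nat.card (Subgroup.centralizer ({g} : Set L)) : ℤ) - ∑ j, s j ^ 2 : ℤ) : ℝ) := by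
      rw [← hru]; exact Finset.sum_nonneg fun χ _ => mul_self_nonneg _
    have : (0 : ℤ) ≤ (Nat.card (Subgroup.centralizer ({g} : Set L)) : ℤ) - ∑ j, s j ^ 2 := by
      exact_mod_cast h0
    linarith
  · intro hne
    have e := hcol g h hg hh
    rw [if_neg hne] at e
    have e' : ∑ χ, u χ * v χ = 0 := by exact_mod_cast e
    have hr : ∑ χ ∈ Finset.univ \ I, u χ * v χ = -((∑ j, s j * t j : ℤ) : ℝ) := by
      rw [Finset.sum_sdiff_eq_sub (Finset.subset_univ I), e', hsum g h s t hs ht]; ring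
    have hcs := Finset.sum_mul_sq_le_sq_mul_sq (Finset.univ \ I) u v
    simp only [pow_two] at hcs
    rw [hr, hru, hrv] at hcs
    have : ((((∑ j, s j * t j) ^ 2 : ℤ)) : ℝ) ≤
        ((((Nat.card (Subgroup.centralizer ({g} : Set L)) : ℤ) - ∑ j, s j ^ 2) *
          ((Nat.card (Subgroup.centralizer ({h} : Set L)) : ℤ) - ∑ j, t j ^ 2) : ℤ) : ℝ) := by
      push_cast at hcs ⊢
      linarith
    exact_mod_cast this

end H61.TwoAn
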